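import Cfsg.Agent.Lib.Cores.Subnormal

/-!
# A generalised zipper lemma

`unique_maximal_of_one_exception`: let `A` be a proper subgroup of a finite group with normal closure everything.
If `A` is subnormal in all but at most one of the maximal subgroups containing it, then only one maximal subgroup
contains `A`.
-/

set_option autoImplicit false
open scoped Pointwise

namespace Cfsg.Agent.Zipper

universe u

variable {G : Type u} [Group G]

open Cfsg.Agent.Cores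

/-- `L` is a maximal subgroup over `C` in which `C` is not subnormal. -/
def Exc (C L : Subgroup G) : Prop := IsCoatom L ∧ C ≤ L ∧ ¬ (C.subgroupOf L).IsSubnormal

theorem smul_eq_comap (g : G) (S : Subgroup G) :
    MulAut.conj g • S = S.comap (MulAut.conj g).symm.toMonoidHom := by
  ext x; simp [mem_conj_smul, mul_assoc]

theorem isCoatom_conj_smul {L : Subgroup G} (hL : IsCoatom L) (g : G) :
    IsCoatom (MulAut.conj g • L) := by
  refine ⟨fun h => hL.1 ?_, fun K hK => ?_⟩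
  · have h2 := congrArg (fun H => (MulAut.conj g)⁻¹ • H) h
    simp only [inv_smul_smul] at h2
    rw [h2]
    ext x
    simp [Subgroup.mem_pointwise_smul_iff_inv_smul_mem]
  · have h1 : L < (MulAut.conj g)⁻¹ • K := by
      rw [lt_iff_le_and_ne]
      refine ⟨?_, ?_⟩
      · have := Subgroup.pointwise_smul_le_pointwise_smul_iff (a := (MulAut.conj g)⁻¹).2 hK.le
        rwa [inv_smul_smul] at this
      · intro h
        apply hK.ne
        rw [h, smul_inv_smul]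
    have h2 := congrArg (fun H => MulAut.conj g • H) (hL.2 _ h1)
    simp only [smul_inv_smul] at h2
    rw [h2]
    ext x
    simp [mem_conj_smul]

theorem subnormal_conj_smul {C L : Subgroup G} (h : (C.subgroupOf L).IsSubnormal) (g : G) :
    ((MulAut.conj g • C).subgroupOf (MulAut.conj g • L)).IsSubnormal := by
  rw [smul_eq_comap, smul_eq_comap]
  exact isSubnormal_subgroupOf_comap _ h

theorem Exc.smul {C L : Subgroup G} (h : Exc C L) (g : G) :
    Exc (MulAut.conj g • C) (MulAut.conj g • L) := by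
  refine ⟨isCoatom_conj_smul h.1 g, Subgroup.pointwise_smul_le_pointwise_smul_iff.2 h.2.1,
    fun hs => h.2.2 ?_⟩
  have := subnormal_conj_smul hs g⁻¹
  rwa [← mul_smul, ← mul_smul, ← map_mul, inv_mul_cancel, map_one, one_smul, one_smul] at this

theorem smul_sSup_le {g : G} {R : Set (Subgroup G)} {K : Subgroup G}
    (h : ∀ C ∈ R, MulAut.conj g • C ≤ K) : MulAut.conj g • sSup R ≤ K :=
  Subgroup.pointwise_smul_subset_iff.2 (sSup_le fun C hC => Subgroup.pointwise_smul_subset_iff.1 (h C hC))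

theorem conj_smul_eq_self_of_mem {Y : Subgroup G} {g : G} (hg : g ∈ Y) : MulAut.conj g • Y = Y :=
  conj_smul_eq_self_iff.2 (Subgroup.le_normalizer hg)

theorem exc_conj_mem {C Y : Subgroup G} {g : G} (hg : g ∈ Y) (h : Exc (MulAut.conj g • C) Y) :
    Exc C Y := by
  have h1 := h.smul g⁻¹
  rwa [← mul_smul, ← map_mul, inv_mul_cancel, map_one, one_smul,
    conj_smul_eq_self_of_mem (Y.inv_mem hg)] at h1

theorem sSup_subnormal [Finite G] {L : Subgroup G} (R : Set (Subgroup G)) (hle : ∀ C ∈ R, C ≤ L)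
    (hsn : ∀ C ∈ R, (C.subgroupOf L).IsSubnormal) : ((sSup R).subgroupOf L).IsSubnormal := by
  induction R, Set.toFinite R using Set.Finite.induction_on with
  | empty => simp
  | @insert a t _ _ ih =>
    have hle' : ∀ C ∈ t, C ≤ L := fun C hC => hle C (Set.mem_insert_of_mem _ hC)
    rw [sSup_insert, Subgroup.subgroupOf_sup (hle a (Set.mem_insert _ _)) (sSup_le hle')]
    exact isSubnormal_sup (hsn a (Set.mem_insert _ _))
      (ih hle' fun C hC => hsn C (Set.mem_insert_of_mem _ hC))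

theorem normalizer_coatom_eq {A L : Subgroup G} (hA : Subgroup.normalClosure (A : Set G) = ⊤)
    (hL : IsCoatom L) (hAL : A ≤ L) : Subgroup.normalizer (L : Set G) = L := by
  rcases hL.le_iff.1 (Subgroup.le_normalizer (H := L)) with h | h
  · exfalso
    haveI := Subgroup.normalizer_eq_top_iff.1 h
    exact hL.1 (top_le_iff.1 (hA ▸ Subgroup.normalClosure_le_normal hAL))
  · exact h

/-- The setting of the proof: a class of conjugate subgroups, each with a unique exceptional maximal. -/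
structure Setting (𝒞 : Set (Subgroup G)) : Prop where
  conj_mem : ∀ C ∈ 𝒞, ∀ g : G, MulAut.conj g • C ∈ 𝒞
  eq_of_le : ∀ C ∈ 𝒞, ∀ C' ∈ 𝒞, C ≤ C' → C = C'
  normalClosure : ∀ C ∈ 𝒞, Subgroup.normalClosure (C : Set G) = ⊤
  exists_exc : ∀ C ∈ 𝒞, ∃ L, Exc C L
  exc_unique : ∀ C ∈ 𝒞, ∀ L L', Exc C L → Exc C L' → L = L'
  larger : ∀ C ∈ 𝒞, ∀ V : Subgroup G, C < V → ∀ M₀ : Subgroup G,
    (∀ L : Subgroup G, IsCoatom L → V ≤ L → L ≠ M₀ → (V.subgroupOf L).IsSubnormal) →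
    ∀ L₁ L₂ : Subgroup G, IsCoatom L₁ → IsCoatom L₂ → V ≤ L₁ → V ≤ L₂ → L₁ = L₂

variable [Finite G] {𝒞 : Set (Subgroup G)} (hs : Setting 𝒞)

include hs

/-- Two members inside two maximal subgroups: one is exceptional outside a given maximal subgroup. -/
theorem exists_exc_ne {B C : Subgroup G} (hB : B ∈ 𝒞) (hC : C ∈ 𝒞) (hBC : B ≠ C) {X X' : Subgroup G}
    (hX : IsCoatom X) (hX' : IsCoatom X') (hne : X ≠ X') (hBX : B ≤ X) (hCX : C ≤ X) (hBX' : B ≤ X')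
    (hCX' : C ≤ X') (M₀ : Subgroup G) :
    ∃ L, L ≠ M₀ ∧ B ≤ L ∧ C ≤ L ∧ (Exc B L ∨ Exc C L) := by
  by_contra hcon
  apply hne
  have hlt : B < B ⊔ C := lt_of_le_of_ne le_sup_left fun h =>
    hBC (hs.eq_of_le C hC B hB (le_sup_right.trans h.ge)).symm
  refine hs.larger B hB (B ⊔ C) hlt M₀ (fun L hL hle hL0 => ?_) X X' hX hX' (sup_le hBX hCX)
    (sup_le hBX' hCX')
  by_contra hns
  apply hcon
  refine ⟨L, hL0, le_sup_left.trans hle, le_sup_right.trans hle, ?_⟩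
  by_contra hno
  push Not at hno
  apply hns
  rw [Subgroup.subgroupOf_sup (le_sup_left.trans hle) (le_sup_right.trans hle)]
  exact isSubnormal_sup (by_contra fun h => hno.1 ⟨hL, le_sup_left.trans hle, h⟩)
    (by_contra fun h => hno.2 ⟨hL, le_sup_right.trans hle, h⟩)

theorem exc_inj {B C : Subgroup G} (hB : B ∈ 𝒞) (hC : C ∈ 𝒞) {X L : Subgroup G} (hX : IsCoatom X)
    (hne : X ≠ L) (hBX : B ≤ X) (hCX : C ≤ X) (hBL : Exc B L) (hCL : Exc C L) : B = C := by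
  by_contra hBC
  obtain ⟨L', hne', -, -, h | h⟩ :=
    exists_exc_ne hs hB hC hBC hX hBL.1 hne hBX hCX hBL.2.1 hCL.2.1 L
  · exact hne' (hs.exc_unique B hB _ _ h hBL)
  · exact hne' (hs.exc_unique C hC _ _ h hCL)

theorem le_exc {B C : Subgroup G} (hB : B ∈ 𝒞) (hC : C ∈ 𝒞) {X X' L : Subgroup G} (hX : IsCoatom X)
    (hX' : IsCoatom X') (hne : X ≠ X') (hBX : B ≤ X) (hCX : C ≤ X) (hBX' : B ≤ X') (hCX' : C ≤ X')
    (hL : Exc C L) : B ≤ L := by
  by_cases hBC : B = C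
  · exact hBC ▸ hL.2.1
  obtain ⟨LB, hLB⟩ := hs.exists_exc B hB
  obtain ⟨L', hne', hB', -, h | h⟩ := exists_exc_ne hs hB hC hBC hX hX' hne hBX hCX hBX' hCX' LB
  · exact absurd (hs.exc_unique B hB _ _ h hLB) hne'
  · exact hs.exc_unique C hC _ _ h hL ▸ hB'

omit hs in
/-- The measure of a pair of maximal subgroups. -/
noncomputable def measure (𝒞 : Set (Subgroup G)) (X L : Subgroup G) : ℕ :=
  {C ∈ 𝒞 | C ≤ X ⊓ L}.ncard * (Nat.card G + 1) + Nat.card ↥(X ⊓ L)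

/-- A pair of maximal subgroups: some member lies in both and is exceptional in the second. -/
def Pair (𝒞 : Set (Subgroup G)) (p : Subgroup G × Subgroup G) : Prop :=
  IsCoatom p.1 ∧ p.1 ≠ p.2 ∧ ∃ C ∈ 𝒞, C ≤ p.1 ∧ Exc C p.2

omit hs in
theorem measure_lt_of_card_lt {X L X' L' : Subgroup G}
    (hsub : {C ∈ 𝒞 | C ≤ X ⊓ L} ⊆ {C ∈ 𝒞 | C ≤ X' ⊓ L'})
    (hlt : Nat.card ↥(X ⊓ L) < Nat.card ↥(X' ⊓ L')) : measure 𝒞 X L < measure 𝒞 X' L' := by
  have h1 := Nat.mul_le_mul_right (Nat.card G + 1) (Set.ncard_le_ncard hsub (Set.toFinite _))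
  unfold measure
  omega

omit hs in
theorem measure_lt_of_ssubset {X L X' L' : Subgroup G}
    (hsub : {C ∈ 𝒞 | C ≤ X ⊓ L} ⊂ {C ∈ 𝒞 | C ≤ X' ⊓ L'}) : measure 𝒞 X L < measure 𝒞 X' L' := by
  have h1 := Nat.mul_le_mul_right (Nat.card G + 1) (Set.ncard_lt_ncard hsub (Set.toFinite _))
  have h2 : Nat.card ↥(X ⊓ L) ≤ Nat.card G := Subgroup.card_le_card_group _
  unfold measure
  rw [Nat.succ_mul] at h1
  omega

/-- In each of the two maximal subgroups of a largest pair, the normalizer of the join grows. -/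
theorem exists_grow {M M₀ : Subgroup G}
    (hmax : ∀ p, Pair 𝒞 p → measure 𝒞 p.1 p.2 ≤ measure 𝒞 M M₀)
    (hgen : ∀ C ∈ 𝒞, C ≤ M ⊓ M₀ → ∀ L, Exc C L → ∀ C' ∈ 𝒞, C' ≤ M ⊓ M₀ → C' ≤ L)
    (htwo : ∀ E, ∃ C ∈ 𝒞, C ≤ M ⊓ M₀ ∧ C ≠ E)
    {X Y : Subgroup G} (hX : IsCoatom X) (hY : IsCoatom Y) (hne : X ≠ Y) (hXY : X ⊓ Y = M ⊓ M₀) :
    ∃ j ∈ Y, j ∉ X ∧ j ∈ Subgroup.normalizer
      ((sSup {C ∈ 𝒞 | C ≤ M ⊓ M₀} : Subgroup G) : Set G) := by
  set D := M ⊓ M₀
  have hDY : D ≤ Y := hXY ▸ inf_le_right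
  have hDX : D ≤ X := hXY ▸ inf_le_left
  set T := {C ∈ 𝒞 | C ≤ D ∧ ¬ Exc C Y} with hT
  set U := sSup T with hU
  have hUD : U ≤ D := sSup_le fun C hC => hC.2.1
  have hUsn : (U.subgroupOf Y).IsSubnormal :=
    sSup_subnormal T (fun C hC => hC.2.1.trans hDY) fun C hC =>
      by_contra fun h => hC.2.2 ⟨hY, hC.2.1.trans hDY, h⟩
  have himg : ∀ g ∈ Y, MulAut.conj g • U ≤ D → MulAut.conj g • U ≤ U := by
    intro g hg hle
    rw [hU]
    refine smul_sSup_le fun C hC => le_sSup ?_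
    refine ⟨hs.conj_mem C hC.1 g, ?_, fun h => hC.2.2 (exc_conj_mem hg h)⟩
    exact (Subgroup.pointwise_smul_le_pointwise_smul_iff.2 (le_sSup hC)).trans hle
  obtain ⟨j, hjY, hjX, hjU⟩ : ∃ j ∈ Y, j ∉ X ∧ j ∈ Subgroup.normalizer (U : Set G) := by
    by_cases hYN : Y ≤ Subgroup.normalizer (U : Set G)
    · obtain ⟨j, hj, hjX⟩ := Set.not_subset.1 fun h : (Y : Set G) ⊆ X =>
        hne ((hY.le_iff.1 h).resolve_left hX.1)
      exact ⟨j, hj, hjX, hYN hj⟩
    by_contra hcon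
    push Not at hcon
    obtain ⟨g, hgY, hgne, hgN, hgY'⟩ := exists_conj_le_normalizer_of_le (hUD.trans hDY) hUsn hYN
    refine hgne (conj_smul_le_iff_eq.1 (himg g hgY ?_))
    intro x hx
    rw [← hXY]
    refine ⟨?_, hgY' hx⟩
    by_contra hxX
    exact hcon x (hgY' hx) hxX (hgN hx)
  have hjT : ∀ C ∈ T, MulAut.conj j • C ∈ T := fun C hC => by
    refine ⟨hs.conj_mem C hC.1 j, ?_, fun h => hC.2.2 (exc_conj_mem hjY h)⟩
    refine le_trans ?_ hUD
    rw [← conj_smul_eq_self_iff.2 hjU]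
    exact Subgroup.pointwise_smul_le_pointwise_smul_iff.2 (le_sSup hC)
  refine ⟨j, hjY, hjX, ?_⟩
  suffices hS : ∀ C ∈ {C ∈ 𝒞 | C ≤ D}, MulAut.conj j • C ≤ D by
    rw [← conj_smul_eq_self_iff]
    apply conj_smul_le_iff_eq.1
    exact smul_sSup_le fun C hC => le_sSup ⟨hs.conj_mem C hC.1 j, hS C hC⟩
  rintro C ⟨hC, hCD⟩
  by_cases hCY : Exc C Y
  swap
  · exact (hjT C ⟨hC, hCD, hCY⟩).2.1
  by_contra hout
  obtain ⟨B, hB, hBD, hBC⟩ := htwo C
  have hBY : ¬ Exc B Y := fun h =>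
    hBC (exc_inj hs hB hC hX hne (hBD.trans hDX) (hCD.trans hDX) h hCY)
  obtain ⟨hB', hB'D, hB'Y⟩ := hjT B ⟨hB, hBD, hBY⟩
  obtain ⟨LB, hLB⟩ := hs.exists_exc B hB
  have hL := hLB.smul j
  have hneL : Y ≠ MulAut.conj j • LB := fun h => hB'Y (h ▸ hL)
  have hpair : Pair 𝒞 (Y, MulAut.conj j • LB) := ⟨hY, hneL, _, hB', hB'D.trans hDY, hL⟩
  refine not_lt.2 (hmax _ hpair) (measure_lt_of_ssubset ⟨?_, ?_⟩)
  · rintro C' ⟨hC', hC'D⟩
    exact ⟨hC', le_inf (hC'D.trans hDY) (hgen _ hB' hB'D _ hL C' hC' hC'D)⟩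
  · intro h
    apply hout
    refine (h ⟨hs.conj_mem C hC j, le_inf ?_ ?_⟩).2
    · calc MulAut.conj j • C ≤ MulAut.conj j • Y :=
            Subgroup.pointwise_smul_le_pointwise_smul_iff.2 (hCD.trans hDY)
        _ = Y := conj_smul_eq_self_of_mem hjY
    · exact Subgroup.pointwise_smul_le_pointwise_smul_iff.2 (hgen B hB hBD LB hLB C hC hCD)

theorem no_pair {p : Subgroup G × Subgroup G} (hp : Pair 𝒞 p) : False := by
  obtain ⟨⟨M, M₀⟩, ⟨hM, hne, A, hA, hAM, hA0⟩, hmax⟩ :=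
    Set.exists_max_image {p | Pair 𝒞 p} (fun p => measure 𝒞 p.1 p.2) (Set.toFinite _) ⟨p, hp⟩
  simp only at hM hne hAM hA0
  have hM₀ := hA0.1
  have hAD : A ≤ M ⊓ M₀ := le_inf hAM hA0.2.1
  have hgen : ∀ C ∈ 𝒞, C ≤ M ⊓ M₀ → ∀ L, Exc C L → ∀ C' ∈ 𝒞, C' ≤ M ⊓ M₀ → C' ≤ L :=
    fun C hC hCD L hL C' hC' hC'D => le_exc hs hC' hC hM hM₀ hne (hC'D.trans inf_le_left)
      (hCD.trans inf_le_left) (hC'D.trans inf_le_right) (hCD.trans inf_le_right) hL
  have hNA : Subgroup.normalizer (A : Set G) ≤ M₀ := by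
    intro n hn
    have h1 := hA0.smul n
    rw [conj_smul_eq_self_iff.2 hn] at h1
    have h2 := conj_smul_eq_self_iff.1 (hs.exc_unique A hA _ _ h1 hA0)
    rwa [normalizer_coatom_eq (hs.normalClosure A hA) hM₀ hA0.2.1] at h2
  have hsnM : (A.subgroupOf M).IsSubnormal :=
    by_contra fun h => hne (hs.exc_unique A hA _ _ ⟨hM, hAM, h⟩ hA0)
  have hnle : ¬ M ≤ Subgroup.normalizer (A : Set G) := fun h =>
    hne.symm ((hM.le_iff.1 (h.trans hNA)).resolve_left hM₀.1)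
  obtain ⟨g, hgM, hgne, hgN, hgle⟩ := exists_conj_le_normalizer_of_le hAM hsnM hnle
  have htwo : ∀ E, ∃ C ∈ 𝒞, C ≤ M ⊓ M₀ ∧ C ≠ E := by
    intro E
    by_cases hE : E = A
    · exact ⟨_, hs.conj_mem A hA g, le_inf hgle (hgN.trans hNA), hE ▸ hgne⟩
    · exact ⟨A, hA, hAD, Ne.symm hE⟩
  obtain ⟨j₁, hj₁, hj₁', hj₁N⟩ :=
    exists_grow hs hmax hgen htwo hM₀ hM (Ne.symm hne) (inf_comm _ _)
  obtain ⟨j₀, hj₀, hj₀', hj₀N⟩ := exists_grow hs hmax hgen htwo hM hM₀ hne rfl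
  set W := sSup {C ∈ 𝒞 | C ≤ M ⊓ M₀}
  have hWM : W ≤ M := sSup_le fun C hC => hC.2.trans inf_le_left
  have hN : Subgroup.normalizer (W : Set G) ≠ ⊤ := by
    intro h
    haveI := Subgroup.normalizer_eq_top_iff.1 h
    have hAW : A ≤ W := le_sSup ⟨hA, hAD⟩
    exact hM.1 (top_le_iff.1 ((hs.normalClosure A hA).ge.trans
      ((Subgroup.normalClosure_le_normal hAW).trans hWM)))
  obtain ⟨L, hL, hNL⟩ := (eq_top_or_exists_le_coatom _).resolve_left hN
  have hDN : M ⊓ M₀ ≤ Subgroup.normalizer (W : Set G) := by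
    intro d hd
    rw [← conj_smul_eq_self_iff]
    apply conj_smul_le_iff_eq.1
    exact smul_sSup_le fun C hC => le_sSup ⟨hs.conj_mem C hC.1 d,
      (Subgroup.pointwise_smul_le_pointwise_smul_iff.2 hC.2).trans (conj_smul_eq_self_of_mem hd).le⟩
  have hsub : M ⊓ M₀ ≤ L := hDN.trans hNL
  have hL0 : L ≠ M₀ := fun h => hj₁' (h ▸ hNL hj₁N)
  have hpair : Pair 𝒞 (L, M₀) := ⟨hL, hL0, A, hA, hAD.trans hsub, hA0⟩
  refine not_lt.2 (hmax _ hpair) (measure_lt_of_card_lt ?_ ?_)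
  · exact fun C hC => ⟨hC.1, le_inf (hC.2.trans hsub) (hC.2.trans inf_le_right)⟩
  · refine lt_of_le_of_ne (Subgroup.card_le_of_le (le_inf hsub inf_le_right)) fun h => ?_
    have heq := Subgroup.eq_of_le_of_card_ge (le_inf hsub inf_le_right) h.ge
    exact hj₀' ((heq.ge ⟨hNL hj₀N, hj₀⟩).1)

omit hs in
/-- The generalised zipper lemma. -/
theorem unique_maximal_of_one_exception (A : Subgroup G)
    (hA : Subgroup.normalClosure (A : Set G) = ⊤) (hne : A ≠ ⊤) (M₀ : Subgroup G)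
    (h : ∀ L : Subgroup G, IsCoatom L → A ≤ L → L ≠ M₀ → (A.subgroupOf L).IsSubnormal) :
    ∀ L₁ L₂ : Subgroup G, IsCoatom L₁ → IsCoatom L₂ → A ≤ L₁ → A ≤ L₂ → L₁ = L₂ := by
  induction hn : Nat.card G - Nat.card A using Nat.strong_induction_on generalizing A M₀ with
  | _ n ih =>
  intro L₁ L₂ hL₁ hL₂ hA₁ hA₂
  have hns : ¬ A.IsSubnormal := fun hsn => by
    obtain ⟨K, hK, hAK, hlt⟩ := hsn.exists_normal_and_le_and_lt_top_of_ne hne
    haveI := hK
    exact hlt.ne (top_le_iff.1 (hA ▸ Subgroup.normalClosure_le_normal hAK))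
  by_cases hall : ∀ L : Subgroup G, IsCoatom L → A ≤ L → (A.subgroupOf L).IsSubnormal
  · have hS : ∀ H : Subgroup G, A ≤ H → H ≠ ⊤ → (A.subgroupOf H).IsSubnormal := by
      intro H hAH hH
      obtain ⟨L, hL, hHL⟩ := (eq_top_or_exists_le_coatom H).resolve_left hH
      have h1 := (hall L hL (hAH.trans hHL)).comap (Subgroup.inclusion hHL)
      exact h1
    obtain ⟨M, -, -, hu⟩ := wielandt_zipper A hS hns
    rw [hu L₁ hL₁ hA₁, hu L₂ hL₂ hA₂]
  push Not at hall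
  obtain ⟨M₁, hM₁, hAM₁, hM₁ns⟩ := hall
  have hE : Exc A M₁ := ⟨hM₁, hAM₁, hM₁ns⟩
  have hu : ∀ L, Exc A L → L = M₁ := fun L hL => by
    have e1 : L = M₀ := by_contra fun hne' => hL.2.2 (h L hL.1 hL.2.1 hne')
    have e2 : M₁ = M₀ := by_contra fun hne' => hM₁ns (h M₁ hM₁ hAM₁ hne')
    rw [e1, e2]
  set 𝒞 := {C : Subgroup G | ∃ g : G, MulAut.conj g • A = C} with h𝒞
  have hcard : ∀ g : G, Nat.card ↥(MulAut.conj g • A) = Nat.card A := fun g =>
    (Nat.card_congr (Subgroup.equivSMul (MulAut.conj g) A).toEquiv).symm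
  have hs : Setting 𝒞 := by
    refine ⟨?_, ?_, ?_, ?_, ?_, ?_⟩
    · rintro _ ⟨g, rfl⟩ k
      exact ⟨k * g, by rw [map_mul, mul_smul]⟩
    · rintro _ ⟨g, rfl⟩ _ ⟨k, rfl⟩ hle
      exact Subgroup.eq_of_le_of_card_ge hle (by rw [hcard, hcard])
    · rintro _ ⟨g, rfl⟩
      rw [eq_top_iff, ← hA]
      refine Subgroup.normalClosure_le_normal fun a ha => ?_
      have h1 : g * a * g⁻¹ ∈ Subgroup.normalClosure ((MulAut.conj g • A : Subgroup G) : Set G) :=
        Subgroup.le_normalClosure (mem_conj_smul.2 (by simpa [mul_assoc] using ha))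
      have h2 := Subgroup.normalClosure_normal.conj_mem _ h1 g⁻¹
      simpa [mul_assoc] using h2
    · rintro _ ⟨g, rfl⟩
      exact ⟨_, hE.smul g⟩
    · rintro _ ⟨g, rfl⟩ L L' hL hL'
      have key : ∀ L, Exc (MulAut.conj g • A) L → L = MulAut.conj g • M₁ := by
        intro L hL
        have h1 := hL.smul g⁻¹
        rw [← mul_smul, ← map_mul, inv_mul_cancel, map_one, one_smul] at h1
        rw [← hu _ h1, ← mul_smul, ← map_mul, mul_inv_cancel, map_one, one_smul]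
      rw [key L hL, key L' hL']
    · rintro _ ⟨g, rfl⟩ V hlt M₀' hV K₁ K₂ hK₁ hK₂ hV₁ hV₂
      have hlt' : Nat.card A < Nat.card V := by
        rw [← hcard g]
        exact lt_of_le_of_ne (Subgroup.card_le_of_le hlt.le) fun he =>
          hlt.ne (Subgroup.eq_of_le_of_card_ge hlt.le he.ge)
      have hVG : Nat.card V ≤ Nat.card G := Subgroup.card_le_card_group V
      refine ih _ (by omega) V ?_ (fun h' => hK₁.1 (top_le_iff.1 (h' ▸ hV₁))) M₀' hV rfl
        K₁ K₂ hK₁ hK₂ hV₁ hV₂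
      rw [eq_top_iff, ← hA]
      refine Subgroup.normalClosure_le_normal fun a ha => ?_
      have h1 : g * a * g⁻¹ ∈ Subgroup.normalClosure (V : Set G) :=
        Subgroup.le_normalClosure (hlt.le (mem_conj_smul.2 (by simpa [mul_assoc] using ha)))
      have h2 := Subgroup.normalClosure_normal.conj_mem _ h1 g⁻¹
      simpa [mul_assoc] using h2
  by_contra hne'
  have hAc : A ∈ 𝒞 := ⟨1, by rw [map_one, one_smul]⟩
  by_cases h1 : L₁ = M₁
  · exact no_pair hs (p := (L₂, M₁)) ⟨hL₂, fun h2 => hne' (h1.trans h2.symm), A, hAc, hA₂, hE⟩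
  · exact no_pair hs (p := (L₁, M₁)) ⟨hL₁, h1, A, hAc, hA₁, hE⟩

end Cfsg.Agent.Zipper
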